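import Mathlib.RingTheory.Kaehler.Basic
import Mathlib.RingTheory.FiniteStability
import Mathlib.RingTheory.Flat.Basic
import Mathlib.RingTheory.Flat.Localization
import Mathlib.RingTheory.Localization.Submodule
import Mathlib.RingTheory.Finiteness.ModuleFinitePresentation
import Mathlib.RingTheory.KrullDimension.Basic
import Mathlib.RingTheory.Ideal.Height
import Mathlib.RingTheory.Ideal.Cotangent
import Mathlib.RingTheory.Ideal.GoingUp
import Mathlib.RingTheory.Jacobson.Ring
import Mathlib.RingTheory.Nullstellensatz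
import Mathlib.FieldTheory.IsAlgClosed.AlgebraicClosure
import Mathlib.RingTheory.Finiteness.Nakayama
import Mathlib.Algebra.Module.LocalizedModule.Basic
import Mathlib.LinearAlgebra.Dimension.Constructions

/-!
# Generators of differentials from the embedding dimension of the geometric fibre
-/

universe u

open TensorProduct

namespace Groth.Agent.KaehlerGen28

variable {K : Type u} [Field K] {A : Type u} [CommRing A] [Algebra K A]

theorem isIntegral_includeRight :
    (Algebra.TensorProduct.includeRight : A →ₐ[K] AlgebraicClosure K ⊗[K] A).toRingHom.IsIntegral := by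
  letI := (Algebra.TensorProduct.includeRight : A →ₐ[K] AlgebraicClosure K ⊗[K] A).toRingHom.toAlgebra
  haveI : IsScalarTower K A (AlgebraicClosure K ⊗[K] A) := IsScalarTower.of_algebraMap_eq fun r => by
    exact (Algebra.TensorProduct.includeRight (R := K) (A := AlgebraicClosure K) (B := A)).commutes r |>.symm
  intro z
  change IsIntegral A z
  induction z with
  | zero => exact isIntegral_zero
  | add x y hx hy => exact hx.add hy
  | tmul l a =>
    rw [show l ⊗ₜ[K] a = (l ⊗ₜ[K] (1 : A)) * ((1 : AlgebraicClosure K) ⊗ₜ[K] a) by simp]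
    refine IsIntegral.mul ?_ (isIntegral_algebraMap (x := a))
    exact ((Algebra.IsIntegral.isIntegral (R := K) l).map
      (Algebra.TensorProduct.includeLeft (R := K) (S := K) (A := AlgebraicClosure K) (B := A))).tower_top

theorem ringKrullDim_le : ringKrullDim (AlgebraicClosure K ⊗[K] A) ≤ ringKrullDim A := by
  let f := (Algebra.TensorProduct.includeRight : A →ₐ[K] AlgebraicClosure K ⊗[K] A).toRingHom
  letI := f.toAlgebra
  haveI : Algebra.IsIntegral A (AlgebraicClosure K ⊗[K] A) := ⟨isIntegral_includeRight⟩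
  exact Order.krullDim_le_of_strictMono (fun q => PrimeSpectrum.comap f q)
    (fun q q' h => Ideal.IsIntegral.comap_lt_comap (R := A) (show q.asIdeal < q'.asIdeal from h))

/-- A point over the algebraic closure above a maximal ideal. -/
theorem exists_point [Algebra.FiniteType K A] [Nontrivial (AlgebraicClosure K ⊗[K] A)] (m : Ideal A) [m.IsMaximal] :
    ∃ χ : AlgebraicClosure K ⊗[K] A →ₐ[AlgebraicClosure K] AlgebraicClosure K,
      ∀ a ∈ m, χ (1 ⊗ₜ[K] a) = 0 := by
  let L := AlgebraicClosure K
  let f := (Algebra.TensorProduct.includeRight : A →ₐ[K] L ⊗[K] A).toRingHom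
  letI := f.toAlgebra
  haveI : Algebra.IsIntegral A (L ⊗[K] A) := ⟨isIntegral_includeRight⟩
  have hinj : Function.Injective f :=
    Algebra.TensorProduct.includeRight_injective (algebraMap K L).injective
  obtain ⟨Q, hQ, hQm⟩ := Ideal.exists_ideal_over_maximal_of_isIntegral (S := L ⊗[K] A) m
    (by rw [RingHom.algebraMap_toAlgebra, (RingHom.injective_iff_ker_eq_bot f).1 hinj]; exact bot_le)
  letI := Ideal.Quotient.field Q
  haveI : Algebra.FiniteType L ((L ⊗[K] A) ⧸ Q) := inferInstance
  haveI : Module.Finite L ((L ⊗[K] A) ⧸ Q) := finite_of_finite_type_of_isJacobsonRing L _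
  have hb := IsAlgClosed.algebraMap_bijective_of_isIntegral (k := L) (K := (L ⊗[K] A) ⧸ Q)
  refine ⟨(AlgEquiv.ofBijective (Algebra.ofId L ((L ⊗[K] A) ⧸ Q)) hb).symm.toAlgHom.comp (Ideal.Quotient.mkₐ L Q),
    fun a ha => ?_⟩
  have : (Ideal.Quotient.mk Q) (1 ⊗ₜ[K] a) = 0 := Ideal.Quotient.eq_zero_iff_mem.2 (by rw [← hQm] at ha; exact ha)
  change (AlgEquiv.ofBijective (Algebra.ofId L ((L ⊗[K] A) ⧸ Q)) hb).symm (Ideal.Quotient.mk Q (1 ⊗ₜ[K] a)) = 0
  rw [this, map_zero]

theorem finrank_fibre_le [Algebra.FiniteType K A] [IsDomain (AlgebraicClosure K ⊗[K] A)]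
    (hhyp : ∀ (q : Ideal (AlgebraicClosure K ⊗[K] A)) [q.IsPrime],
      (Module.finrank (IsLocalRing.ResidueField (Localization.AtPrime q))
          (IsLocalRing.CotangentSpace (Localization.AtPrime q)) : ℕ∞) ≤ q.height + 1)
    (d : ℕ) (hd : ringKrullDim A = d) (m : Ideal A) [m.IsMaximal] :
    Module.finrank (A ⧸ m) ((A ⧸ m) ⊗[A] KaehlerDifferential K A) ≤ d + 1 := by
  classical
  obtain ⟨χ, hχ⟩ := exists_point (K := K) m
  let L := AlgebraicClosure K
  let B := L ⊗[K] A
  haveI : IsNoetherianRing B := Algebra.FiniteType.isNoetherianRing L B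
  let Q : Ideal B := RingHom.ker χ.toRingHom
  haveI : Q.IsPrime := RingHom.ker_isPrime _
  let ψ : A →ₐ[K] L := (χ.restrictScalars K).comp Algebra.TensorProduct.includeRight
  letI : Algebra A L := ψ.toRingHom.toAlgebra
  haveI : IsScalarTower K A L := IsScalarTower.of_algebraMap_eq fun r => (ψ.commutes r).symm
  let κ := A ⧸ m
  letI := Ideal.Quotient.field m
  let κL : κ →ₐ[A] L := Ideal.Quotient.liftₐ m (Algebra.ofId A L) fun a ha => hχ a ha
  letI : Algebra κ L := κL.toRingHom.toAlgebra
  haveI : IsScalarTower A κ L := IsScalarTower.of_algebraMap_eq fun a => (κL.commutes a).symm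
  let Ω := KaehlerDifferential K A
  let g : A →ₗ[K] L ⊗[A] Ω :=
    ((TensorProduct.mk A L Ω 1).restrictScalars K).comp (KaehlerDifferential.D K A).toLinearMap
  let Db : B →ₗ[L] L ⊗[A] Ω := LinearMap.liftBaseChange L g
  have hDb : ∀ (l : L) (a : A), Db (l ⊗ₜ[K] a) = l • ((1 : L) ⊗ₜ[A] KaehlerDifferential.D K A a) := fun l a => rfl
  have hψ : ∀ (a : A) (w : Ω), ((1 : L) ⊗ₜ[A] (a • w)) = χ (1 ⊗ₜ[K] a) • ((1 : L) ⊗ₜ[A] w) := fun a w => by
    rw [TensorProduct.tmul_smul, TensorProduct.smul_tmul', TensorProduct.smul_tmul', Algebra.smul_def, smul_eq_mul]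
    rfl
  have leib : ∀ x y : B, Db (x * y) = χ x • Db y + χ y • Db x := by
    intro x y
    induction x using TensorProduct.induction_on with
    | zero => simp
    | add x₁ x₂ h1 h2 => simp only [add_mul, map_add, h1, h2, add_smul, smul_add]; abel
    | tmul l a =>
      induction y using TensorProduct.induction_on with
      | zero => simp
      | add y₁ y₂ h1 h2 => simp only [mul_add, map_add, h1, h2, add_smul, smul_add]; abel
      | tmul l' b =>
        have hl : ∀ (l : L) (a : A), χ (l ⊗ₜ[K] a) = l * χ (1 ⊗ₜ[K] a) := fun l a => by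
          rw [show l ⊗ₜ[K] a = l • ((1 : L) ⊗ₜ[K] a) by rw [TensorProduct.smul_tmul', smul_eq_mul, mul_one],
            map_smul, smul_eq_mul]
        rw [Algebra.TensorProduct.tmul_mul_tmul, hDb, hDb, hDb, Derivation.leibniz, TensorProduct.tmul_add, hψ, hψ,
          hl l a, hl l' b, smul_add, smul_smul, smul_smul, smul_smul, smul_smul]
        congr 2 <;> ring
  have hone : Db 1 = 0 := by
    have h := leib 1 1
    rw [mul_one, show χ (1 : B) = 1 from map_one χ, one_smul] at h
    exact left_eq_add.1 h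
  -- finitely many generators of the local maximal ideal
  let Bq := Localization.AtPrime Q
  let k₀ := IsLocalRing.ResidueField Bq
  let b := Module.finBasis k₀ (IsLocalRing.CotangentSpace Bq)
  choose y hy using fun i => (IsLocalRing.maximalIdeal Bq).toCotangent_surjective (b i)
  have hspan : Submodule.span Bq (Set.range y) = ⊤ := by
    rw [← IsLocalRing.CotangentSpace.span_image_eq_top_iff, ← Set.range_comp]
    rw [show ((IsLocalRing.maximalIdeal Bq).toCotangent ∘ y) = ⇑b from funext hy]
    exact b.span_eq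
  choose zs hzs using fun i => IsLocalization.surj Q.primeCompl ((y i : IsLocalRing.maximalIdeal Bq) : Bq)
  let x : _ → B := fun i => (zs i).1
  have hxQ : ∀ i, x i ∈ Q := fun i => by
    rw [← IsLocalization.AtPrime.to_map_mem_maximal_iff Bq Q, ← hzs i]
    exact Ideal.mul_mem_right _ _ (y i).2
  have hgen : ∀ z ∈ Q, ∃ t : Q.primeCompl, (t : B) * z ∈ Ideal.span (Set.range x) := by
    intro z hz
    have hz' : algebraMap B Bq z ∈ (Ideal.span (Set.range x)).map (algebraMap B Bq) := by
      have h1 : (⟨_, (IsLocalization.AtPrime.to_map_mem_maximal_iff Bq Q z).2 hz⟩ : IsLocalRing.maximalIdeal Bq) ∈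
          Submodule.span Bq (Set.range y) := hspan ▸ Submodule.mem_top
      have h2 := Submodule.mem_map_of_mem (f := (IsLocalRing.maximalIdeal Bq).subtype) h1
      rw [Submodule.map_span, ← Set.range_comp] at h2
      refine (Submodule.span_le.2 ?_) h2
      rintro _ ⟨i, rfl⟩
      have hu : IsUnit (algebraMap B Bq ((zs i).2 : B)) := IsLocalization.map_units Bq (zs i).2
      refine (Ideal.mul_unit_mem_iff_mem _ hu).1 ?_
      rw [show ((IsLocalRing.maximalIdeal Bq).subtype ∘ y) i * algebraMap B Bq ((zs i).2 : B) = algebraMap B Bq (x i)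
        from hzs i]
      exact Ideal.mem_map_of_mem _ (Ideal.subset_span ⟨i, rfl⟩)
    obtain ⟨⟨⟨w, hw⟩, t⟩, e⟩ := (IsLocalization.mem_map_algebraMap_iff Q.primeCompl Bq).1 hz'
    rw [← map_mul] at e
    obtain ⟨c, hc⟩ := (IsLocalization.eq_iff_exists Q.primeCompl Bq).1 e
    refine ⟨c * t, ?_⟩
    rw [Submonoid.coe_mul, mul_assoc, mul_comm (t : B) z, hc]
    exact Ideal.mul_mem_left _ _ hw
  let W : Submodule L (L ⊗[A] Ω) := Submodule.span L (Set.range fun i => Db (x i))
  have hWI : ∀ w ∈ Ideal.span (Set.range x), Db w ∈ W := by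
    intro w hw
    induction hw using Submodule.span_induction with
    | mem v hv => obtain ⟨i, rfl⟩ := hv; exact Submodule.subset_span ⟨i, rfl⟩
    | zero => simp
    | add v v' _ _ h h' => rw [map_add]; exact add_mem h h'
    | smul c v hv h =>
      have hv0 : χ v = 0 := (Ideal.span_le.2 (fun v hv => by obtain ⟨i, rfl⟩ := hv; exact hxQ i) :
        Ideal.span (Set.range x) ≤ Q) hv
      rw [smul_eq_mul, leib, hv0, zero_smul, add_zero]
      exact W.smul_mem _ h
  have hW : ⊤ ≤ W := by
    rintro v -
    induction v with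
    | zero => exact zero_mem _
    | add v v' h h' => exact add_mem h h'
    | tmul l w =>
      rw [show l ⊗ₜ[A] w = l • ((1 : L) ⊗ₜ[A] w) by rw [TensorProduct.smul_tmul', smul_eq_mul, mul_one]]
      refine W.smul_mem _ ?_
      have hw : w ∈ Submodule.span A (Set.range (KaehlerDifferential.D K A)) := by
        rw [KaehlerDifferential.span_range_derivation]; exact Submodule.mem_top
      induction hw using Submodule.span_induction with
      | zero => rw [TensorProduct.tmul_zero]; exact zero_mem _
      | add v v' _ _ h h' => rw [TensorProduct.tmul_add]; exact add_mem h h'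
      | smul a v _ h => rw [hψ]; exact W.smul_mem _ h
      | mem v hv =>
        obtain ⟨a, rfl⟩ := hv
        let z : B := (1 : L) ⊗ₜ[K] a - algebraMap L B (χ (1 ⊗ₜ[K] a))
        have hz : z ∈ Q := by
          show χ z = 0
          rw [map_sub, AlgHom.commutes]; exact sub_self _
        have hDz : Db z = (1 : L) ⊗ₜ[A] KaehlerDifferential.D K A a := by
          rw [map_sub, hDb, one_smul, Algebra.algebraMap_eq_smul_one, map_smul, hone, smul_zero, sub_zero]
        obtain ⟨t, ht⟩ := hgen z hz
        have h := hWI _ ht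
        rw [leib, show χ z = 0 from hz, zero_smul, add_zero, hDz] at h
        rwa [W.smul_mem_iff (show χ (t : B) ≠ 0 from t.2)] at h
  have hrank : Module.finrank L (L ⊗[A] Ω) ≤ Module.finrank k₀ (IsLocalRing.CotangentSpace Bq) := by
    rw [← finrank_top, ← top_unique hW]
    exact (finrank_range_le_card _).trans (le_of_eq (Fintype.card_fin _))
  have heq : Module.finrank κ (κ ⊗[A] Ω) = Module.finrank L (L ⊗[A] Ω) := by
    rw [← Module.finrank_baseChange (R := L) (S := κ)]
    exact (TensorProduct.AlgebraTensorModule.cancelBaseChange A κ L L Ω).finrank_eq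
  rw [heq]
  refine hrank.trans ?_
  have h1 := hhyp Q
  have h2 : (Q.height : WithBot ℕ∞) ≤ (d : ℕ) := hd ▸
    (Ideal.height_le_ringKrullDim_of_ne_top Ideal.IsPrime.ne_top').trans ringKrullDim_le
  have h3 : Q.height ≤ (d : ℕ) := WithBot.coe_le_coe.1 h2
  exact_mod_cast h1.trans (add_le_add_left h3 1)

theorem exists_generators [Algebra.FiniteType K A] [IsDomain (AlgebraicClosure K ⊗[K] A)]
    (hhyp : ∀ (q : Ideal (AlgebraicClosure K ⊗[K] A)) [q.IsPrime],
      (Module.finrank (IsLocalRing.ResidueField (Localization.AtPrime q))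
          (IsLocalRing.CotangentSpace (Localization.AtPrime q)) : ℕ∞) ≤ q.height + 1)
    (d : ℕ) (hd : ringKrullDim A = d) (p : Ideal A) [p.IsPrime] :
    ∃ s : Finset (LocalizedModule p.primeCompl (KaehlerDifferential K A)),
      s.card ≤ d + 1 ∧ Submodule.span (Localization.AtPrime p)
        (s : Set (LocalizedModule p.primeCompl (KaehlerDifferential K A))) = ⊤ := by
  classical
  obtain ⟨m, hm, hpm⟩ := Ideal.exists_le_maximal p Ideal.IsPrime.ne_top'
  let Ω := KaehlerDifferential K A
  letI := Ideal.Quotient.field m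
  let b := Module.finBasis (A ⧸ m) ((A ⧸ m) ⊗[A] Ω)
  have hsurj : Function.Surjective (TensorProduct.mk A (A ⧸ m) Ω 1) :=
    TensorProduct.mk_surjective A Ω (A ⧸ m) Ideal.Quotient.mk_surjective
  choose ω hω using fun i => hsurj (b i)
  let N : Submodule A Ω := Submodule.span A (Set.range ω)
  have hmod : (⊤ : Submodule A (Ω ⧸ N)) ≤ m • ⊤ := by
    intro v _
    obtain ⟨v, rfl⟩ := N.mkQ_surjective v
    have hb : (1 : A ⧸ m) ⊗ₜ[A] v ∈ Submodule.span A (Set.range b) := by
      have := b.mem_span ((1 : A ⧸ m) ⊗ₜ[A] v)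
      rwa [← Submodule.restrictScalars_mem A, Submodule.restrictScalars_span A (A ⧸ m) Ideal.Quotient.mk_surjective] at this
    obtain ⟨w, hw, e⟩ : ∃ w ∈ N, (TensorProduct.mk A (A ⧸ m) Ω 1) w = (1 : A ⧸ m) ⊗ₜ[A] v := by
      rw [← Submodule.mem_map, Submodule.map_span, ← Set.range_comp]
      rwa [show (⇑(TensorProduct.mk A (A ⧸ m) Ω 1) ∘ ω) = ⇑b from funext hω]
    have h0 : v - w ∈ m • (⊤ : Submodule A Ω) := by
      rw [← Submodule.Quotient.mk_eq_zero]
      apply (TensorProduct.quotTensorEquivQuotSMul Ω m).symm.injective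
      rw [map_zero, TensorProduct.quotTensorEquivQuotSMul_symm_mk, TensorProduct.tmul_sub]
      exact sub_eq_zero.2 e.symm
    have h1 := Submodule.mem_map_of_mem (f := N.mkQ) h0
    rw [Submodule.map_smul'', Submodule.map_top, Submodule.range_mkQ, map_sub,
      show N.mkQ w = 0 from (Submodule.Quotient.mk_eq_zero N).2 hw, sub_zero] at h1
    exact h1
  obtain ⟨r, hr1, hr⟩ := Submodule.exists_sub_one_mem_and_smul_eq_zero_of_fg_of_le_smul m
    (⊤ : Submodule A (Ω ⧸ N)) Module.Finite.fg_top hmod
  have hrp : r ∈ p.primeCompl := fun h => hm.ne_top ((Ideal.eq_top_iff_one m).2 (by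
    simpa using m.sub_mem (hpm h) hr1))
  refine ⟨Finset.univ.image fun i => LocalizedModule.mk (ω i) 1, ?_, ?_⟩
  · refine Finset.card_image_le.trans ?_
    rw [Finset.card_univ, Fintype.card_fin]
    exact finrank_fibre_le hhyp d hd m
  refine Submodule.eq_top_iff'.2 fun z => ?_
  induction z using LocalizedModule.induction_on with
  | h v t =>
    have hv : r • v ∈ N := (Submodule.Quotient.mk_eq_zero N).1 (hr (N.mkQ v) Submodule.mem_top)
    have h1 : LocalizedModule.mk (r • v) 1 ∈ Submodule.span (Localization.AtPrime p)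
        (↑(Finset.univ.image fun i => LocalizedModule.mk (ω i) (1 : p.primeCompl)) :
          Set (LocalizedModule p.primeCompl Ω)) := by
      have h2 := Submodule.mem_map_of_mem (f := LocalizedModule.mkLinearMap p.primeCompl Ω) hv
      rw [Submodule.map_span, ← Set.range_comp] at h2
      refine Submodule.span_le_restrictScalars A (Localization.AtPrime p) _ (Submodule.span_mono ?_ h2)
      rintro _ ⟨i, rfl⟩
      simp [LocalizedModule.mkLinearMap_apply]
    have h3 : LocalizedModule.mk v t = Localization.mk (1 : A) (⟨r, hrp⟩ * t) • LocalizedModule.mk (r • v) 1 := by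
      rw [LocalizedModule.mk_smul_mk, one_smul, mul_one]
      exact (LocalizedModule.mk_cancel_common_left ⟨r, hrp⟩ t v).symm
    rw [h3]
    exact Submodule.smul_mem _ _ h1

end Groth.Agent.KaehlerGen28
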